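import Groth.Agent.PervTLib.ExtReal

/-! Extensions with the same class have isomorphic middle terms. -/

set_option autoImplicit false
set_option backward.isDefEq.respectTransparency false
set_option backward.isDefEq.respectTransparency.types false

universe v u w

open CategoryTheory CategoryTheory.Limits CategoryTheory.Pretriangulated CategoryTheory.Abelian DerivedCategory

namespace Groth.Agent.PervTLib

variable {A : Type u} [Category.{v} A] [Abelian A] [HasExt.{w} A]

/-- Two extensions with the same class have isomorphic middle terms. -/
theorem nonempty_iso_of_extClass_eq {F Q X X' : A} {i : F ⟶ X} {q : X ⟶ Q} {i' : F ⟶ X'} {q' : X' ⟶ Q}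
    {w : i ≫ q = 0} {w' : i' ≫ q' = 0} (hS : (ShortComplex.mk i q w).ShortExact)
    (hS' : (ShortComplex.mk i' q' w').ShortExact) (h : hS.extClass = hS'.extClass) : Nonempty (X ≅ X') := by
  letI := HasDerivedCategory.standard A
  let e : ((singleFunctor A 0).obj X) ≅ (singleFunctor A 0).obj X' := by
    refine (shiftFunctor (DerivedCategory A) (1 : ℤ)).preimageIso (Triangle.π₃.mapIso
      (isoTriangleOfIso₁₂ hS.singleTriangle.rotate.rotate hS'.singleTriangle.rotate.rotate
        (rot_of_distTriang _ (rot_of_distTriang _ hS.singleTriangle_distinguished))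
        (rot_of_distTriang _ (rot_of_distTriang _ hS'.singleTriangle_distinguished))
        (Iso.refl _) (Iso.refl _) ?_))
    have hδ : hS.singleδ = hS'.singleδ := by rw [← hS.extClass_hom, ← hS'.extClass_hom, h]
    exact (Category.comp_id _).trans (hδ.trans (Category.id_comp _).symm)
  exact ⟨(singleFunctor A 0).preimageIso e⟩

end Groth.Agent.PervTLib
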