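import Groth.Agent.PervTLib.Heart
import Mathlib.Algebra.Homology.DerivedCategory.Ext.ExactSequences
import Mathlib.Algebra.Homology.DerivedCategory.TStructure
import Mathlib.Algebra.Homology.DerivedCategory.FullyFaithful

/-! Every class in `Ext¹` is the class of an extension. -/

set_option autoImplicit false
set_option backward.isDefEq.respectTransparency false
set_option backward.isDefEq.respectTransparency.types false

universe v u w

open CategoryTheory CategoryTheory.Limits CategoryTheory.Pretriangulated CategoryTheory.Abelian DerivedCategory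

namespace Groth.Agent.PervTLib

variable {A : Type u} [Category.{v} A] [Abelian A] [HasExt.{w} A]

/-- Every class in `Ext¹` is the class of a short exact sequence. -/
theorem exists_shortExact_extClass {Q F : A} (x : Ext Q F 1) :
    ∃ (X : A) (i : F ⟶ X) (q : X ⟶ Q) (w : i ≫ q = 0) (hS : (ShortComplex.mk i q w).ShortExact),
      hS.extClass = x := by
  letI := HasDerivedCategory.standard A
  let t := DerivedCategory.TStructure.t (C := A)
  let s := singleFunctor A 0
  have hle : ∀ X : A, t.IsLE (s.obj X) 0 := fun X => inferInstanceAs ((s.obj X).IsLE 0)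
  have hge : ∀ X : A, t.IsGE (s.obj X) 0 := fun X => inferInstanceAs ((s.obj X).IsGE 0)
  let x' : s.obj Q ⟶ (s.obj F)⟦(1 : ℤ)⟧ := x.hom
  obtain ⟨T, α, β, hT⟩ := distinguished_cocone_triangle₂ x'
  haveI : T.IsLE 0 := t.isLE₂ _ hT 0 (hle F) (hle Q)
  haveI : T.IsGE 0 := t.isGE₂ _ hT 0 (hge F) (hge Q)
  obtain ⟨X, ⟨e⟩⟩ := exists_iso_singleFunctor_obj_of_isGE_of_isLE T 0
  obtain ⟨i, hi⟩ := s.map_surjective (α ≫ e.hom)
  obtain ⟨q, hq⟩ := s.map_surjective (e.inv ≫ β)
  have hT' : Triangle.mk (s.map i) (s.map q) x' ∈ distTriang (DerivedCategory A) :=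
    isomorphic_distinguished _ hT _ (Triangle.isoMk _ _ (Iso.refl _) e.symm (Iso.refl _)
      (by simp [hi]) (by simp [hq]) (by simp))
  obtain ⟨w, hS⟩ := shortExact_of_distTriang t hle hge i q x' hT'
  refine ⟨X, i, q, w, hS, ?_⟩
  obtain ⟨c, hc₁, hc₂⟩ := complete_distinguished_triangle_morphism _ _ hT' hS.singleTriangle_distinguished
    (𝟙 _) (𝟙 _) ((Category.comp_id _).trans (Category.id_comp _).symm)
  obtain ⟨c', rfl⟩ : ∃ c' : Q ⟶ Q, s.map c' = c := s.map_surjective c
  have hc : c' = 𝟙 Q := by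
    haveI : Epi q := hS.epi_g
    refine (cancel_epi q).1 (s.map_injective ?_)
    rw [s.map_comp, Category.comp_id]
    exact hc₁.trans (Category.id_comp _)
  ext
  rw [hS.extClass_hom]
  have h2 : x' ≫ (𝟙 _ : s.obj F ⟶ _)⟦(1 : ℤ)⟧' = s.map c' ≫ hS.singleδ := hc₂
  rw [hc, s.map_id, CategoryTheory.Functor.map_id, Category.comp_id, Category.id_comp] at h2
  exact h2.symm

end Groth.Agent.PervTLib
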