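import Mathlib.CategoryTheory.Triangulated.TStructure.AbelianSubcategory
import Mathlib.CategoryTheory.Triangulated.TStructure.TruncLEGT
import Mathlib.CategoryTheory.Triangulated.TStructure.Heart
import Mathlib.Algebra.Homology.ShortComplex.ShortExact
import Mathlib.CategoryTheory.Abelian.Basic

/-! Short exact sequences in the heart of a t-structure. -/

set_option autoImplicit false
set_option backward.isDefEq.respectTransparency false

universe v v' u u'

open CategoryTheory CategoryTheory.Limits CategoryTheory.Pretriangulated CategoryTheory.Triangulated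
open scoped ZeroObject

namespace Groth.Agent.PervTLib

variable {C : Type u} [Category.{v} C] [Preadditive C] [HasZeroObject C] [HasShift C ℤ]
  [∀ n : ℤ, (shiftFunctor C n).Additive] [Pretriangulated C] (t : TStructure C)
  {H : Type u'} [Category.{v'} H] {ι : H ⥤ C}
  (hle : ∀ X, t.IsLE (ι.obj X) 0) (hge : ∀ X, t.IsGE (ι.obj X) 0)

include hle hge in
/-- No negative extensions between objects of the heart. -/
theorem eq_zero_of_neg ⦃X Y : H⦄ ⦃n : ℤ⦄ (f : ι.obj X ⟶ (ι.obj Y)⟦n⟧) (hn : n < 0) : f = 0 := by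
  haveI := hge Y
  exact t.zero_of_isLE_of_isGE f 0 (-n) (by lia) (hle X) (t.isGE_shift (ι.obj Y) 0 n (-n))

include hle hge in
/-- Distinguished triangles with vertices in the heart are short exact. -/
theorem shortExact_of_distTriang [Abelian H] [ι.Full] [ι.Faithful] [ι.Additive] {X Y Z : H}
    (f : X ⟶ Y) (g : Y ⟶ Z) (h : ι.obj Z ⟶ (ι.obj X)⟦(1 : ℤ)⟧)
    (hT : Triangle.mk (ι.map f) (ι.map g) h ∈ distTriang C) :
    ∃ w : f ≫ g = 0, (ShortComplex.mk f g w).ShortExact := by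
  have hι := eq_zero_of_neg t hle hge
  have hk := AbelianSubcategory.isLimitKernelForkOfDistTriang hι f g h hT
  have hc := AbelianSubcategory.isColimitCokernelCoforkOfDistTriang hι f g h hT
  refine ⟨ι.map_injective (by simpa using comp_distTriang_mor_zero₁₂ _ hT), .mk' ?_ ?_ ?_⟩
  · exact ShortComplex.exact_of_f_is_kernel _ hk
  · exact mono_of_isLimit_fork hk
  · exact epi_of_isColimit_cofork hc

include hle hge in
/-- All morphisms of the heart are admissible. -/
theorem admissible_eq_top [ι.Full] [ι.Faithful] (hess : ∀ X : C, t.heart X → ι.essImage X) :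
    AbelianSubcategory.admissibleMorphism ι = ⊤ := by
  ext X₁ X₂ f₁
  simp only [MorphismProperty.top_apply, iff_true]
  intro X₃ f₂ f₃ hT
  haveI := hle X₁; haveI := hge X₁; haveI := hle X₂; haveI := hge X₂
  have hX₃le : t.IsLE X₃ 0 := by
    haveI h₁ : t.IsLE ((ι.obj X₁)⟦(1 : ℤ)⟧) (-1) := t.isLE_shift (ι.obj X₁) 0 1 (-1)
    exact t.isLE₂ _ (rot_of_distTriang _ hT) 0 (hle X₂) (t.isLE_of_le ((ι.obj X₁)⟦(1 : ℤ)⟧) (-1) 0)
  have hX₃ge : t.IsGE X₃ (-1) := by
    haveI := t.isGE_shift (ι.obj X₁) 0 1 (-1)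
    exact t.isGE₂ _ (rot_of_distTriang _ hT) (-1) (t.isGE_of_ge (ι.obj X₂) (-1) 0)
      (show t.IsGE ((ι.obj X₁)⟦(1 : ℤ)⟧) (-1) from inferInstance)
  let T := (t.triangleLTGE 0).obj X₃
  have hT' : T ∈ distTriang C := t.triangleLTGE_distinguished 0 X₃
  have h1le : t.IsLE T.obj₁ (-1) := by
    change t.IsLE ((t.triangleLTGE 0).obj X₃).obj₁ (0 - 1)
    infer_instance
  have h3ge : t.IsGE T.obj₃ 0 := inferInstanceAs (t.IsGE ((t.triangleLTGE 0).obj X₃).obj₃ 0)
  have h1ge : t.IsGE T.obj₁ (-1) := by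
    haveI := t.isGE_shift T.obj₃ 0 (-1) 1
    exact t.isGE₂ _ (inv_rot_of_distTriang _ hT') (-1) (t.isGE_of_ge (T.obj₃⟦(-1 : ℤ)⟧) (-1) 1) hX₃ge
  have h3le : t.IsLE T.obj₃ 0 := by
    haveI := t.isLE_shift T.obj₁ (-1) 1 (-2)
    exact t.isLE₂ _ (rot_of_distTriang _ hT') 0 hX₃le (t.isLE_of_le (T.obj₁⟦(1 : ℤ)⟧) (-2) 0)
  obtain ⟨K, ⟨eK⟩⟩ : ι.essImage (T.obj₁⟦(-1 : ℤ)⟧) :=
    hess _ ((t.mem_heart_iff _).2 ⟨t.isLE_shift T.obj₁ (-1) (-1) 0, t.isGE_shift T.obj₁ (-1) (-1) 0⟩)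
  obtain ⟨Q, ⟨eQ⟩⟩ : ι.essImage T.obj₃ := hess _ ((t.mem_heart_iff _).2 ⟨h3le, h3ge⟩)
  let e₁ : (ι.obj K)⟦(1 : ℤ)⟧ ≅ T.obj₁ :=
    (shiftFunctor C (1 : ℤ)).mapIso eK ≪≫ (shiftEquiv C (1 : ℤ)).counitIso.app T.obj₁
  refine ⟨K, Q, e₁.hom ≫ T.mor₁, T.mor₂ ≫ eQ.inv, eQ.hom ≫ T.mor₃ ≫ e₁.inv⟦(1 : ℤ)⟧', ?_⟩
  refine isomorphic_distinguished _ hT' _ (Triangle.isoMk _ _ e₁ (Iso.refl _) eQ ?_ ?_ ?_)
  · exact Category.comp_id _
  · simp
  · simp [← Functor.map_comp]

include hle hge in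
/-- Short exact sequences of the heart are distinguished. -/
theorem exists_distTriang_of_shortExact [Abelian H] [ι.Full] [ι.Faithful] [ι.Additive]
    (hess : ∀ X : C, t.heart X → ι.essImage X) {X Y Z : H} (f : X ⟶ Y) (g : Y ⟶ Z)
    (w : f ≫ g = 0) (hS : (ShortComplex.mk f g w).ShortExact) :
    ∃ h : ι.obj Z ⟶ (ι.obj X)⟦(1 : ℤ)⟧, Triangle.mk (ι.map f) (ι.map g) h ∈ distTriang C := by
  haveI : Epi g := hS.epi_g
  haveI : Mono f := hS.mono_f
  obtain ⟨K, i, δ, hT⟩ := AbelianSubcategory.exists_distinguished_triangle_of_epi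
    (eq_zero_of_neg t hle hge) (admissible_eq_top t hle hge hess) g
  obtain ⟨w', hS'⟩ := shortExact_of_distTriang t hle hge i g δ hT
  let e : X ≅ K := IsLimit.conePointUniqueUpToIso hS.fIsKernel hS'.fIsKernel
  have he : e.hom ≫ i = f := IsLimit.conePointUniqueUpToIso_hom_comp _ _ WalkingParallelPair.zero
  refine ⟨δ ≫ (ι.map e.inv)⟦(1 : ℤ)⟧', isomorphic_distinguished _ hT _ ?_⟩
  refine Triangle.isoMk _ _ (ι.mapIso e) (Iso.refl _) (Iso.refl _) ?_ ?_ ?_
  · exact (Category.comp_id _).trans (by simp [← he])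
  · simp
  · simp [← Functor.map_comp]

include hle hge in
/-- The heart has finite products. -/
theorem hasFiniteProducts [Preadditive H] [ι.Full] [ι.Faithful] [ι.Additive]
    (hess : ∀ X : C, t.heart X → ι.essImage X) : HasFiniteProducts H := by
  obtain ⟨Z, ⟨eZ⟩⟩ := hess 0 ((t.mem_heart_iff 0).2 ⟨inferInstance, inferInstance⟩)
  have hZ : IsZero Z := (IsZero.iff_id_eq_zero Z).2
    (ι.map_injective (((isZero_zero C).of_iso eZ).eq_of_src _ _))
  haveI : HasZeroObject H := ⟨Z, hZ⟩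
  haveI : HasTerminal H := HasZeroObject.hasTerminal
  haveI : HasBinaryBiproducts H := ⟨fun X Y => by
    haveI := hle X; haveI := hle Y; haveI := hge X; haveI := hge Y
    have hT := binaryBiproductTriangle_distinguished (ι.obj X) (ι.obj Y)
    obtain ⟨P, ⟨e⟩⟩ := hess (ι.obj X ⊞ ι.obj Y)
      ((t.mem_heart_iff _).2 ⟨t.isLE₂ _ hT 0 (hle X) (hle Y), t.isGE₂ _ hT 0 (hge X) (hge Y)⟩)
    refine hasBinaryBiproduct_of_total
      { pt := P
        fst := ι.preimage (e.hom ≫ biprod.fst)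
        snd := ι.preimage (e.hom ≫ biprod.snd)
        inl := ι.preimage (biprod.inl ≫ e.inv)
        inr := ι.preimage (biprod.inr ≫ e.inv)
        inl_fst := ι.map_injective (by simp)
        inl_snd := ι.map_injective (by simp)
        inr_fst := ι.map_injective (by simp)
        inr_snd := ι.map_injective (by simp) } (ι.map_injective ?_)
    simp only [Functor.map_add, Functor.map_comp, Functor.map_preimage, Category.assoc, Functor.map_id]
    rw [← Preadditive.comp_add, ← Category.assoc biprod.fst, ← Category.assoc biprod.snd,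
      ← Preadditive.add_comp, biprod.total]
    simp⟩
  exact hasFiniteProducts_of_has_binary_and_terminal

end Groth.Agent.PervTLib
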