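import Groth.Agent.PervTLib.Heart
import Mathlib.CategoryTheory.Triangulated.HomologicalFunctor

/-! The degree zero cohomology functor of a t-structure is homological. -/

set_option autoImplicit false
set_option backward.isDefEq.respectTransparency false

universe v v' u u'

open CategoryTheory CategoryTheory.Limits CategoryTheory.Pretriangulated CategoryTheory.Triangulated

namespace Groth.Agent.PervTLib

variable {C : Type u} [Category.{v} C] [Preadditive C] [HasZeroObject C] [HasShift C ℤ]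
  [∀ n : ℤ, (shiftFunctor C n).Additive] [Pretriangulated C] [IsTriangulated C] (t : TStructure C)
  {H : Type u'} [Category.{v'} H] [Abelian H] [t.Heart H] (H0 : C ⥤ H)
  (e : H0 ⋙ t.ιHeart ≅ t.truncGE 0 ⋙ t.truncLE 0)

/-- The map from the truncation above onto `H⁰`. -/
noncomputable def up (W : C) : (t.truncLE 0).obj W ⟶ t.ιHeart.obj (H0.obj W) :=
  (t.truncGEπ 0).app ((t.truncLE 0).obj W) ≫ (t.truncGELEIsoLEGE 0 0).hom.app W ≫ e.inv.app W

/-- The map from `H⁰` to the truncation below. -/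
noncomputable def down (W : C) : t.ιHeart.obj (H0.obj W) ⟶ (t.truncGE 0).obj W :=
  e.hom.app W ≫ (t.truncLEι 0).app ((t.truncGE 0).obj W)

theorem up_naturality {W W' : C} (f : W ⟶ W') :
    (t.truncLE 0).map f ≫ up t H0 e W' = up t H0 e W ≫ t.ιHeart.map (H0.map f) := by
  have h1 := (t.truncGEπ 0).naturality ((t.truncLE 0).map f)
  have h2 := (t.truncGELEIsoLEGE 0 0).hom.naturality f
  have h3 := e.inv.naturality f
  simp only [up, Functor.id_map, Functor.comp_map, Category.assoc] at h1 h2 h3 ⊢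
  rw [reassoc_of% h1, reassoc_of% h2, h3]

theorem down_naturality {W W' : C} (f : W ⟶ W') :
    t.ιHeart.map (H0.map f) ≫ down t H0 e W' = down t H0 e W ≫ (t.truncGE 0).map f := by
  have h1 := (t.truncLEι 0).naturality ((t.truncGE 0).map f)
  have h2 := e.hom.naturality f
  simp only [down, Functor.id_map, Functor.comp_map, Category.assoc] at h1 h2 ⊢
  rw [reassoc_of% h2, h1]

theorem exists_up_desc (W : C) {A : H} (k : (t.truncLE 0).obj W ⟶ t.ιHeart.obj A) :
    ∃ h : H0.obj W ⟶ A, up t H0 e W ≫ t.ιHeart.map h = k := by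
  obtain ⟨h, hh⟩ := (t.ιHeart (H := H)).map_surjective
    (e.hom.app W ≫ (t.truncGELEIsoLEGE 0 0).inv.app W ≫ t.descTruncGE k 0)
  refine ⟨h, ?_⟩
  rw [hh, up]
  simp

theorem up_ext (W : C) {A : H} {h₁ h₂ : H0.obj W ⟶ A}
    (hh : up t H0 e W ≫ t.ιHeart.map h₁ = up t H0 e W ≫ t.ιHeart.map h₂) : h₁ = h₂ := by
  apply (t.ιHeart (H := H)).map_injective
  simp only [up, Category.assoc] at hh
  simpa using (cancel_epi (e.inv.app W)).1
    ((cancel_epi ((t.truncGELEIsoLEGE 0 0).hom.app W)).1 (t.from_truncGE_obj_ext hh))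

theorem down_ext (W : C) {A : H} {a₁ a₂ : A ⟶ H0.obj W}
    (hh : t.ιHeart.map a₁ ≫ down t H0 e W = t.ιHeart.map a₂ ≫ down t H0 e W) : a₁ = a₂ := by
  apply (t.ιHeart (H := H)).map_injective
  rw [← cancel_mono (e.hom.app W)]
  exact t.to_truncLE_obj_ext (by simpa [down] using hh)

include e in
/-- Right exactness when the first vertex is in degrees `≤ 0`. -/
theorem exact_of_isLE {X Y Z : C} (f : X ⟶ Y) (g : Y ⟶ Z) (w : Z ⟶ X⟦(1 : ℤ)⟧)
    (hT : Triangle.mk f g w ∈ distTriang C) [t.IsLE X 0] {A : H} (h : H0.obj Y ⟶ A)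
    (hh : H0.map f ≫ h = 0) : ∃ h' : H0.obj Z ⟶ A, H0.map g ≫ h' = h := by
  let f' : X ⟶ (t.truncLE 0).obj Y := inv ((t.truncLEι 0).app X) ≫ (t.truncLE 0).map f
  have hf' : f' ≫ (t.truncLEι 0).app Y = f := by
    simp only [f', Category.assoc, IsIso.inv_comp_eq]
    exact (t.truncLEι 0).naturality f
  obtain ⟨W, c, wW, hW⟩ := distinguished_cocone_triangle f'
  let O := someOctahedron hf' hW (t.triangleLEGE_distinguished 0 1 rfl Y) hT
  let k₀ : (t.truncLE 0).obj Y ⟶ t.ιHeart.obj A := up t H0 e Y ≫ t.ιHeart.map h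
  have hk₀ : f' ≫ k₀ = 0 := by
    simp only [f', k₀, Category.assoc, reassoc_of% (up_naturality t H0 e f), ← Functor.map_comp, hh]
    simp
  obtain ⟨k, hk⟩ : ∃ k : W ⟶ t.ιHeart.obj A, k₀ = c ≫ k := Triangle.yoneda_exact₂ _ hW k₀ hk₀
  have hn0 : (t.truncLEι 0).app Z ≫ O.m₃ = 0 :=
    t.zero_of_isLE_of_isGE _ 0 1 (by lia) inferInstance
      (show t.IsGE ((t.truncGE 1).obj Y) 1 from inferInstance)
  obtain ⟨n, hn⟩ : ∃ n : (t.truncLE 0).obj Z ⟶ W, (t.truncLEι 0).app Z = n ≫ O.m₁ :=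
    Triangle.coyoneda_exact₂ _ O.mem ((t.truncLEι 0).app Z) hn0
  have hc : ((t.truncLE 0).map g ≫ n - c) ≫ O.m₁ = 0 := by
    rw [Preadditive.sub_comp, Category.assoc, ← hn, sub_eq_zero]
    exact ((t.truncLEι 0).naturality g).trans O.comm₁.symm
  obtain ⟨r, hr⟩ := Triangle.coyoneda_exact₂ _ (inv_rot_of_distTriang _ O.mem) ((t.truncLE 0).map g ≫ n - c) hc
  have hr0 : r = 0 := t.zero_of_isLE_of_isGE r 0 2 (by lia) inferInstance
    (t.isGE_shift ((t.truncGE 1).obj Y) 1 (-1) 2)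
  have hcn : (t.truncLE 0).map g ≫ n = c := by
    rw [← sub_eq_zero, hr, hr0, zero_comp]
  obtain ⟨h', hh'⟩ := exists_up_desc t H0 e Z (n ≫ k)
  refine ⟨h', up_ext t H0 e Y ?_⟩
  rw [Functor.map_comp, ← Category.assoc, ← up_naturality, Category.assoc, hh', reassoc_of% hcn]
  exact hk.symm

include e in
/-- Left exactness when the first vertex is in degrees `≥ 1`. -/
theorem mono_of_isGE {P Z' Z : C} (p : P ⟶ Z') (g : Z' ⟶ Z) (w : Z ⟶ P⟦(1 : ℤ)⟧)
    (hT : Triangle.mk p g w ∈ distTriang C) [t.IsGE P 1] [t.IsGE (P⟦(1 : ℤ)⟧) 0] : Mono (H0.map g) := by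
  refine Preadditive.mono_of_cancel_zero _ fun {A} a ha => ?_
  obtain ⟨W, c, wW, hW⟩ := distinguished_cocone_triangle (p ≫ (t.truncGEπ 0).app Z')
  let O := someOctahedron rfl hT (rot_of_distTriang _ (t.triangleLTGE_distinguished 0 Z')) hW
  have hWge : t.IsGE W 0 := t.isGE₂ _ (rot_of_distTriang _ hW) 0
    (show t.IsGE ((t.truncGE 0).obj Z') 0 from inferInstance) (show t.IsGE (P⟦(1 : ℤ)⟧) 0 from inferInstance)
  let m : (t.truncGE 0).obj Z ⟶ W := t.descTruncGE O.m₁ 0
  have hm : (t.truncGE 0).map g ≫ m = c := by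
    refine t.from_truncGE_obj_ext ?_
    rw [← Category.assoc, show (t.truncGEπ 0).app Z' ≫ (t.truncGE 0).map g = g ≫ (t.truncGEπ 0).app Z from ((t.truncGEπ 0).naturality g).symm, Category.assoc, t.π_descTruncGE]
    exact O.comm₁
  have hac : (t.ιHeart.map a ≫ down t H0 e Z') ≫ c = 0 := by
    rw [← hm, Category.assoc, ← reassoc_of% (down_naturality t H0 e g), ← Functor.map_comp_assoc, ha]
    simp
  obtain ⟨r, hr⟩ : ∃ r : t.ιHeart.obj A ⟶ P, _ = r ≫ p ≫ (t.truncGEπ 0).app Z' :=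
    Triangle.coyoneda_exact₂ _ hW _ hac
  refine down_ext t H0 e Z' ?_
  rw [hr, t.zero_of_isLE_of_isGE r 0 1 (by lia) inferInstance inferInstance]
  simp

include e in
/-- `H⁰` of a t-structure is homological. -/
theorem isHomological : H0.IsHomological := by
  haveI : H0.Additive := by
    haveI : (H0 ⋙ t.ιHeart).Additive := Functor.additive_of_iso e.symm
    exact ⟨fun {X Y f g} => (t.ιHeart (H := H)).map_injective (by
      exact ((H0 ⋙ t.ιHeart).map_add (f := f) (g := g)).trans (t.ιHeart.map_add).symm)⟩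
  refine Functor.IsHomological.mk' _ fun T hT => ⟨_, Iso.refl _, ?_⟩
  obtain ⟨X, Y, Z, f, g, w⟩ := T
  let u := (t.truncLEι 0).app X
  obtain ⟨Z', g', w', hT'⟩ := distinguished_cocone_triangle (u ≫ f)
  let O := someOctahedron rfl (t.triangleLEGE_distinguished 0 1 rfl X) hT hT'
  haveI h1 : t.IsGE ((t.truncGE 1).obj X) 1 := inferInstance
  haveI := t.isGE_shift ((t.truncGE 1).obj X) 1 1 0
  haveI : Mono (H0.map O.m₃) := mono_of_isGE t H0 e _ _ _ O.mem
  rw [ShortComplex.exact_iff_kernel_ι_comp_cokernel_π_zero]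
  change kernel.ι (H0.map g) ≫ cokernel.π (H0.map f) = 0
  obtain ⟨k, hk⟩ := exact_of_isLE t H0 e (u ≫ f) g' w' hT' (cokernel.π (H0.map f))
    (by rw [Functor.map_comp, Category.assoc, cokernel.condition, comp_zero])
  have : kernel.ι (H0.map g) ≫ H0.map g' = 0 := by
    rw [← cancel_mono (H0.map O.m₃), Category.assoc, ← Functor.map_comp, zero_comp,
      show g' ≫ O.m₃ = g from O.comm₃]
    exact kernel.condition _
  rw [← hk, reassoc_of% this, zero_comp]

end Groth.Agent.PervTLib
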