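import Groth.Agent.PervTLib.Homological
import Mathlib.CategoryTheory.Triangulated.Subcategory
import Mathlib.CategoryTheory.Localization.CalculusOfFractions

/-! Truncations and subcategories closed under cohomology objects; t-structures on Verdier quotients. -/

set_option autoImplicit false
set_option backward.isDefEq.respectTransparency false

universe v v' u u'

open CategoryTheory CategoryTheory.Limits CategoryTheory.Pretriangulated CategoryTheory.Triangulated

namespace Groth.Agent.PervTLib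

variable {C : Type u} [Category.{v} C] [Preadditive C] [HasZeroObject C] [HasShift C ℤ]
  [∀ n : ℤ, (shiftFunctor C n).Additive] [Pretriangulated C] (t : TStructure C)

/-- Truncations commute with shifts. -/
theorem trunc_shift (W : C) (a n m : ℤ) (h : n + a = m) :
    Nonempty ((t.truncLT n).obj (W⟦a⟧) ≅ ((t.truncLT m).obj W)⟦a⟧) ∧
      Nonempty ((t.truncGE n).obj (W⟦a⟧) ≅ ((t.truncGE m).obj W)⟦a⟧) := by
  have h₁ : t.IsLE (((t.truncLT m).obj W)⟦a⟧) (n - 1) :=
    t.isLE_shift ((t.truncLT m).obj W) (m - 1) a (n - 1)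
  have h₃ : t.IsGE (((t.truncGE m).obj W)⟦a⟧) n := t.isGE_shift ((t.truncGE m).obj W) m a n
  obtain ⟨e, -⟩ := t.triangle_iso_exists (t.triangleLTGE_distinguished n (W⟦a⟧))
    (Triangle.shift_distinguished _ (t.triangleLTGE_distinguished m W) a) (Iso.refl _) (n - 1) n
    (show t.IsLE ((t.truncLT n).obj (W⟦a⟧)) (n - 1) from inferInstance)
    (show t.IsGE ((t.truncGE n).obj (W⟦a⟧)) n from inferInstance) h₁ h₃
  exact ⟨⟨Triangle.π₁.mapIso e⟩, ⟨Triangle.π₃.mapIso e⟩⟩

/-- The cohomology objects of a shift. -/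
theorem truncLEGE_shift [IsTriangulated C] (W : C) (n : ℤ) :
    Nonempty ((t.truncGE 0 ⋙ t.truncLE 0).obj (W⟦n⟧) ≅ ((t.truncLEGE n n).obj W)⟦n⟧) := by
  obtain ⟨e⟩ := (trunc_shift t W n 0 n (zero_add n)).2
  obtain ⟨e'⟩ := (trunc_shift t ((t.truncGE n).obj W) n 1 (n + 1) (add_comm 1 n)).1
  exact ⟨(t.truncLE 0).mapIso e ≪≫ e'⟩

variable [IsTriangulated C] (D : ObjectProperty C) [D.IsTriangulated] [D.IsClosedUnderIsomorphisms]

omit [IsTriangulated C] [D.IsClosedUnderIsomorphisms] [D.IsTriangulated] in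
theorem isZero_cohom_of_isGE (W : C) (a n : ℤ) [t.IsGE W a] (h : n < a) :
    IsZero ((t.truncLEGE n n).obj W) := by
  haveI : t.IsGE W n := t.isGE_of_ge W n a
  have e : W ≅ (t.truncGE n).obj W := asIso ((t.truncGEπ n).app W)
  haveI : t.IsGE ((t.truncGE n).obj W) (n + 1) := by
    haveI : t.IsGE W (n + 1) := t.isGE_of_ge W (n + 1) a
    exact t.isGE_of_iso e _
  exact (t.isGE_iff_isZero_truncLE_obj n (n + 1) rfl _).1 inferInstance

/-- A bounded object with cohomology in a triangulated subcategory lies in it. -/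
theorem mem_of_cohom (W : C) (a b : ℤ) [t.IsGE W a] [t.IsLE W b]
    (h : ∀ n : ℤ, a ≤ n → D ((t.truncLEGE n n).obj W)) : D W := by
  suffices H : ∀ (k : ℕ) (m : ℤ), a ≤ m → b < m + k → D ((t.truncGE m).obj W) from
    D.prop_of_iso (asIso ((t.truncGEπ a).app W)).symm (H ((b - a).toNat + 1) a le_rfl (by omega))
  intro k
  induction k with
  | zero =>
    intro m _ hm
    haveI : t.IsLE W (m - 1) := t.isLE_of_le W b (m - 1) (by omega)
    exact D.prop_of_isZero (t.isZero_truncGE_obj_of_isLE (m - 1) m (by omega) W)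
  | succ k ih =>
    intro m ham hm
    haveI := t.isIso_truncGE_map_truncGEπ_app (m + 1) m (by omega) W
    refine D.ext_of_isTriangulatedClosed₂ _
      (t.triangleLEGE_distinguished m (m + 1) rfl ((t.truncGE m).obj W)) (h m ham) ?_
    exact D.prop_of_iso (asIso ((t.truncGE (m + 1)).map ((t.truncGEπ m).app W))) (ih _ (by omega) (by omega))

variable (hb : ∀ X : C, t.bounded X) (h1 : ∀ X : C, D X → ∀ n : ℤ, D ((t.truncGELE n n).obj X))
  (h2 : ∀ (X Y Z : C) (f : X ⟶ Y) (g : Y ⟶ Z) (h : Z ⟶ X⟦(1 : ℤ)⟧),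
      Triangle.mk f g h ∈ distTriang C → t.heart X → t.heart Y → t.heart Z → D Y → D X ∧ D Z)

include hb h1 h2 in
/-- The truncation `τ≥1` of an object which differs by an object of `D` from one in degrees `≤ 0`. -/
theorem mem_truncGE_one {T₁ X' X : C} (p : T₁ ⟶ X') (s : X' ⟶ X) (w : X ⟶ T₁⟦(1 : ℤ)⟧)
    (hT : Triangle.mk p s w ∈ distTriang C) (hD : D T₁) [t.IsLE X 0] : D ((t.truncGE 1).obj X') := by
  letI : t.Heart t.heart.FullSubcategory := t.hasHeartFullSubcategory
  let ι : t.heart.FullSubcategory ⥤ C := t.heart.ι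
  have hle : ∀ A, t.IsLE (ι.obj A) 0 := fun A => ⟨A.property.1⟩
  have hge : ∀ A, t.IsGE (ι.obj A) 0 := fun A => ⟨A.property.2⟩
  have hess : ∀ A : C, t.heart A → ι.essImage A := fun A hA => ⟨⟨A, hA⟩, ⟨Iso.refl _⟩⟩
  haveI := hasFiniteProducts t hle hge hess
  letI : Abelian t.heart.FullSubcategory :=
    AbelianSubcategory.abelian ι (eq_zero_of_neg t hle hge) (admissible_eq_top t hle hge hess)
  let H0 : C ⥤ t.heart.FullSubcategory :=
    t.heart.lift (t.truncGE 0 ⋙ t.truncLE 0) fun A =>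
      (t.mem_heart_iff _).2 ⟨inferInstanceAs (t.IsLE ((t.truncLE 0).obj _) 0),
        t.isGE_of_iso ((t.truncGELEIsoLEGE 0 0).app A) 0⟩
  haveI : H0.IsHomological := isHomological t H0 (Iso.refl _)
  -- cohomology of objects in terms of `H0`
  have hiff : ∀ (W : C) (n : ℤ), D (H0.obj (W⟦n⟧)).obj ↔ D ((t.truncLEGE n n).obj W) := fun W n =>
    (D.prop_iff_of_iso (truncLEGE_shift t W n).some).trans (D.prop_shift_iff_of_isStableUnderShift _ n)
  have hepi : ∀ n : ℤ, 1 ≤ n → D ((t.truncLEGE n n).obj X') := fun n hn => by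
    rw [← hiff]
    let S := (Triangle.shiftFunctor C n).obj (Triangle.mk p s w)
    have hS : S ∈ distTriang C := Triangle.shift_distinguished _ hT n
    haveI : t.IsLE (X⟦n⟧) (-n) := t.isLE_shift X 0 n (-n)
    haveI : t.IsLE (X⟦n⟧) (-1) := t.isLE_of_le (X⟦n⟧) (-n) (-1)
    have hz : IsZero (H0.obj S.obj₃) := (IsZero.iff_id_eq_zero _).2 (ι.map_injective
      ((Functor.map_isZero (t.truncLE 0) (t.isZero_truncGE_obj_of_isLE (-1) 0 (by omega) (X⟦n⟧))).eq_of_src _ _))
    haveI : Epi (H0.map S.mor₁) := (H0.map_distinguished_exact S hS).epi_f (hz.eq_of_tgt _ _)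
    obtain ⟨w', hw'⟩ := exists_distTriang_of_shortExact t hle hge hess (kernel.ι (H0.map S.mor₁))
      (H0.map S.mor₁) (kernel.condition _)
      (.mk' (ShortComplex.exact_of_f_is_kernel _ (kernelIsKernel _)) inferInstance inferInstance)
    exact (h2 _ _ _ _ _ _ hw' (kernel (H0.map S.mor₁)).property (H0.obj (T₁⟦n⟧)).property
      (H0.obj (X'⟦n⟧)).property ((hiff T₁ n).2 (D.prop_of_iso ((t.truncGELEIsoLEGE n n).app T₁) (h1 _ hD n)))).2
  obtain ⟨b, hb'⟩ := (hb ((t.truncGE 1).obj X')).2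
  refine mem_of_cohom t D ((t.truncGE 1).obj X') 1 b fun n hn => ?_
  haveI := t.isIso_truncGE_map_truncGEπ_app n 1 hn X'
  exact D.prop_of_iso ((t.truncLE n).mapIso (asIso ((t.truncGE n).map ((t.truncGEπ 1).app X')))) (hepi n hn)

end Groth.Agent.PervTLib
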